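import Cfsg.Agent.ChevGroup.CubicE6.Elems

/-!
The finite checks behind the reduction of an isometry of the cubic form to a diagonal one.
-/

set_option autoImplicit false

namespace Cfsg.Agent.ChevGroup.CubicE6

open Cfsg.Lie Cfsg.Agent.ChevCore Cfsg.Agent.ChevGroup.Minu

/-- For each weight, the set of weights sharing a monomial with it, as a bit mask. -/
def maskList : List ℕ := [132812800, 131408896, 121391360, 112411200, 105857184, 95463952, 88909960, 61871440,
  79929988, 55317800, 69913218, 46339172, 68512385, 36327778, 29406236, 34948449, 19437850, 18099481, 10654294,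
  9512533, 4886702, 4531373, 3165011, 805291, 213735, 43679, 5503]

/-- Two weights share a monomial. -/
noncomputable def share (a b : Fin 27) : Bool := (maskList.getD a.val 0).testBit b.val

/-- A weight occurs in a monomial. -/
def inT (a : Fin 27) (t : Fin 45) : Bool :=
  decide ((tri t).1 = a ∨ (tri t).2.1 = a ∨ (tri t).2.2.1 = a)

/-- The monomials form a partial linear space and `share` records its lines. -/
noncomputable def linkB : Bool :=
  (List.finRange 45).all (fun t => decide ((tri t).1 ≠ (tri t).2.1 ∧ (tri t).1 ≠ (tri t).2.2.1 ∧
    (tri t).2.1 ≠ (tri t).2.2.1 ∧ ((tri t).2.2.2 = 1 ∨ (tri t).2.2.2 = -1))) &&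
  (List.finRange 27).all (fun a => !share a a) &&
  (List.finRange 27).all fun a => (List.finRange 27).all fun b =>
    if a = b then true else
      ((List.finRange 45).filter fun t => inT a t && inT b t).length == (if share a b then 1 else 0)

theorem linkB_true : linkB = true := by decide +kernel

/-- The roots that move a weight. -/
noncomputable def rts (v : Fin 27) : List ℕ := (List.range 72).filter fun r => decide (cd6 r v ≠ 0)

/-- The image of a weight under a root. -/
noncomputable def tg (r : ℕ) (v : Fin 27) : Fin 27 := Fin.ofNat 27 (tgt (cd6 r v))

/-- The images of a weight. -/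
noncomputable def nbrs (v : Fin 27) : List (Fin 27) := (rts v).map fun r => tg r v

/-- Clearing the neighbours of a weight one by one. -/
noncomputable def nbrB (v : Fin 27) : Bool :=
  (rts v).all fun r => decide (preL r (tg r v) = [v]) && (preL r v).isEmpty &&
    (rts v).all fun r' => decide (r' = r) || (preL r (tg r' v)).isEmpty

/-- In a monomial other than `t0` with `c`, a partner of `c` is a neighbour of `v`. -/
noncomputable def otherB (v c : Fin 27) (t : Fin 45) : Bool :=
  (decide ((tri t).1 ≠ c) || (nbrs v).contains (tri t).2.1 || (nbrs v).contains (tri t).2.2.1) &&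
  (decide ((tri t).2.1 ≠ c) || (nbrs v).contains (tri t).1 || (nbrs v).contains (tri t).2.2.1) &&
  (decide ((tri t).2.2.1 ≠ c) || (nbrs v).contains (tri t).1 || (nbrs v).contains (tri t).2.1)

/-- The third member of a monomial. -/
def third (v x : Fin 27) (t : Fin 45) : Fin 27 :=
  if (tri t).1 ≠ v ∧ (tri t).1 ≠ x then (tri t).1
    else if (tri t).2.1 ≠ v ∧ (tri t).2.1 ≠ x then (tri t).2.1 else (tri t).2.2.1

/-- A monomial with the given entries. -/
def triB (a b c : Fin 27) (t : Fin 45) : Bool := sameT ((tri t).1, (tri t).2.1, (tri t).2.2.1) (a, b, c)

/-- Being of rank one kills the remaining coordinates. -/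
noncomputable def oppB (v : Fin 27) : Bool :=
  (List.finRange 27).all fun x => decide (x = v) || (nbrs v).contains x ||
    (List.finRange 45).any fun t0 => inT v t0 && inT x t0 && triB (third v x t0) v x t0 &&
      (List.finRange 45).all fun t => decide (t = t0) || otherB v (third v x t0) t

theorem nbrB_all : (List.finRange 27).all nbrB = true := by decide +kernel

theorem oppB_all : (List.finRange 27).all oppB = true := by decide +kernel

/-- Coordinates that must vanish. -/
noncomputable def forb (S : List (Fin 27)) (mu x : Fin 27) : Bool :=
  S.any fun s => !share s mu && share s x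

/-- The permutation of a word. -/
noncomputable def actW (w : List (Fin 6)) (k : Fin 27) : Fin 27 := w.foldr stepT k

/-- The reason why some candidate coordinate is non-zero. -/
noncomputable def witB (S : List (Fin 27)) (st : FixStep) : Bool :=
  match st.wit with
  | .none => S.isEmpty && (List.finRange 27).all fun x => (st.cands.map Prod.fst).contains x
  | .one s => S.contains s && share s st.mu &&
      (List.finRange 27).all fun x => !share s x || forb S st.mu x || (st.cands.map Prod.fst).contains x
  | .pair a b => S.contains a && S.contains b && (st.cands.map Prod.fst).contains st.mu &&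
      (List.finRange 45).any fun t => triB a st.mu b t

/-- A step is correct. -/
noncomputable def stepOK (S : List (Fin 27)) (st : FixStep) : Bool :=
  !S.contains st.mu && witB S st &&
  st.cands.all fun c =>
    decide (actW c.2 c.1 = st.mu) && (S.all fun s => decide (actW c.2 s = s)) &&
      ((rts c.1).all fun r => (S.all fun s => decide (cd6 r s = 0)) || forb S st.mu (tg r c.1))

/-- All steps are correct. -/
noncomputable def allOK : List (Fin 27) → List FixStep → Bool
  | _, [] => true
  | S, st :: rest => stepOK S st && allOK (st.mu :: S) rest

theorem allOK_true : allOK [] stepList = true := by decide +kernel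

theorem mus_all : (List.finRange 27).all (fun k => (stepList.map FixStep.mu).contains k) = true := by
  decide +kernel

end Cfsg.Agent.ChevGroup.CubicE6
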