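import Mathlib

/-!
Combinatorial data for the cubic form of the 27-dimensional representation of type E6: the 45 monomials, the
change of coordinates to three 3 by 3 matrices, the order in which weights are fixed, and lattice combinations.
-/

set_option autoImplicit false

namespace Cfsg.Agent.ChevGroup.CubicE6

/-- The reason why a coordinate is non-zero. -/
inductive Wit where
  | none
  | one (x : Fin 27)
  | pair (a b : Fin 27)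

/-- One step in fixing the weights. -/
structure FixStep where
  mu : Fin 27
  wit : Wit
  cands : List (Fin 27 × List (Fin 6))

/-- The monomials. -/
def triList : List (Fin 27 × Fin 27 × Fin 27 × ℤ) := [(0, 12, 26, 1), (0, 15, 25, -1), (0, 17, 24, 1), (0, 19, 23, -1), (0, 21, 22, 1), (1, 10, 26, -1), (1, 13, 25, 1), (1, 16, 24, -1), (1, 18, 23, 1), (1, 20, 22, -1), (2, 8, 26, 1), (2, 11, 25, -1), (2, 14, 24, 1), (2, 18, 21, -1), (2, 19, 20, 1), (3, 6, 26, -1), (3, 9, 25, 1), (3, 14, 23, -1), (3, 16, 21, 1), (3, 17, 20, -1), (4, 5, 26, 1), (4, 7, 25, -1), (4, 14, 22, 1), (4, 16, 19, -1), (4, 17, 18, 1), (5, 9, 24, -1), (5, 11, 23, 1), (5, 13, 21, -1), (5, 15, 20, 1), (6, 7, 24, 1), (6, 11, 22, -1), (6, 13, 19, 1), (6, 15, 18, -1), (7, 8, 23, -1), (7, 10, 21, 1), (7, 12, 20, -1), (8, 9, 22, 1), (8, 13, 17, -1), (8, 15, 16, 1), (9,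 10, 19, -1), (9, 12, 18, 1), (10, 11, 17, 1), (10, 14, 15, -1), (11, 12, 16, -1), (12, 13, 14, 1)]

/-- The coordinate change: positions. -/
def sigList : List (Fin 27) := [0, 1, 23, 26, 15, 20, 17, 2, 16, 22, 3, 25, 4, 12, 19, 9, 14, 11, 13, 10, 6, 7, 5, 21, 24, 18, 8]

/-- The coordinate change: signs. -/
def delList : List ℤ := [1, 1, 1, 1, 1, 1, -1, 1, 1, 1, -1, 1, -1, -1, 1, 1, 1, -1, -1, 1, 1, 1, 1, -1, -1, -1, 1]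

/-- The global sign. -/
def globSign : ℤ := -1

/-- The steps. -/
def stepList : List FixStep :=
  [⟨2, Wit.none, [(2, []), (1, [2]), (3, [3]), (0, [2, 0]), (4, [3, 1]), (5, [3, 4]), (6, [3, 1, 4]), (7, [3, 4, 5]), (8, [3, 1, 4, 3]), (9, [3, 1, 4, 5]), (10, [3, 1, 4, 3, 2]), (11, [3, 1, 4, 3, 5]), (12, [3, 1, 4, 3, 2, 0]), (13, [3, 1, 4, 3, 2, 5]), (14, [3, 1, 4, 3, 5, 4]), (15, [3, 1, 4, 3, 2, 0, 5]), (16, [3, 1, 4, 3, 2, 5, 4]), (17, [3, 1, 4, 3, 2, 0, 5, 4]), (18, [3, 1, 4, 3, 2, 5, 4, 3]), (19, [3, 1, 4, 3, 2, 0, 5, 4, 3]), (20, [3, 1, 4, 3, 2, 5, 4, 3, 1]), (21, [3, 1, 4, 3, 2, 0, 5, 4, 3, 1]), (22, [3, 1, 4, 3, 2, 0, 5, 4, 3, 2]), (23, [3, 1, 4, 3, 2, 0, 5, 4, 3, 1, 2]), (24, [3, 1, 4, 3, 2, 0, 5, 4, 3, 1, 2, 3]), (25, [3, 1, 4, 3, 2, 0, 5, 4, 3, 1, 2, 3, 4]), (26, [3, 1, 4, 3, 2, 0, 5, 4, 3, 1, 2, 3, 4, 5])]⟩,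
   ⟨19, Wit.one 2, [(19, []), (18, [0]), (21, [1]), (20, [0, 1]), (14, [0, 2, 3, 2]), (24, [1, 2, 3, 2]), (11, [0, 2, 3, 2, 4]), (25, [1, 2, 3, 2, 4]), (8, [0, 2, 3, 2, 4, 5]), (26, [1, 2, 3, 2, 4, 5])]⟩,
   ⟨20, Wit.pair 2 19, [(20, [])]⟩,
   ⟨4, Wit.one 19, [(4, []), (6, [4]), (9, [4, 5]), (10, [2, 4, 3, 2]), (13, [2, 4, 3, 2, 5]), (16, [2, 4, 3, 2, 5, 4]), (0, [0, 1, 2, 3, 1, 2, 0]), (23, [2, 0, 4, 3, 1, 2, 0, 5, 4, 3, 1, 2, 0])]⟩,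
   ⟨16, Wit.pair 19 4, [(16, [])]⟩,
   ⟨15, Wit.one 16, [(15, []), (12, [5]), (3, [0, 1, 2, 3, 5, 4, 3, 1, 2, 0]), (1, [0, 1, 2, 0, 3, 5, 4, 3, 1, 2, 0, 3, 2])]⟩,
   ⟨5, Wit.pair 20 15, [(5, [])]⟩,
   ⟨8, Wit.pair 16 15, [(8, [])]⟩,
   ⟨26, Wit.pair 2 8, [(26, [])]⟩,
   ⟨21, Wit.one 16, [(21, []), (24, [2, 3, 2]), (11, [0, 1, 2, 3, 4, 3, 1, 2, 0])]⟩,
   ⟨18, Wit.pair 2 21, [(18, [])]⟩,
   ⟨17, Wit.pair 4 18, [(17, [])]⟩,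
   ⟨13, Wit.pair 5 21, [(13, [])]⟩,
   ⟨3, Wit.pair 20 17, [(3, [])]⟩,
   ⟨6, Wit.pair 19 13, [(6, [])]⟩,
   ⟨7, Wit.one 21, [(7, []), (22, [2, 0, 3, 1, 2, 3, 4, 3, 1, 2, 0, 3, 2])]⟩,
   ⟨24, Wit.pair 6 7, [(24, [])]⟩,
   ⟨12, Wit.pair 20 7, [(12, [])]⟩,
   ⟨1, Wit.pair 16 24, [(1, [])]⟩,
   ⟨14, Wit.pair 2 24, [(14, [])]⟩,
   ⟨22, Wit.pair 20 1, [(22, [])]⟩,
   ⟨11, Wit.pair 16 12, [(11, [])]⟩,
   ⟨25, Wit.pair 2 11, [(25, [])]⟩,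
   ⟨9, Wit.pair 5 24, [(9, [])]⟩,
   ⟨23, Wit.pair 5 11, [(23, [])]⟩,
   ⟨0, Wit.pair 19 23, [(0, [])]⟩,
   ⟨10, Wit.pair 19 9, [(10, [])]⟩]

/-- Combinations of the weights giving the unit vectors. -/
def combList : List (List (ℕ × ℤ)) := [[(0, 1)], [(3, 1), (24, -1)], [(2, -1), (24, -1), (25, -1), (26, -1)], [(24, -1), (25, -1), (26, -1)], [(25, -1), (26, -1)], [(26, -1)]]

/-- Combinations of the monomials. -/
def relList : List (List (Fin 45 × ℤ)) := [[], [(0, -1), (1, 1), (3, 1), (5, 1), (10, 1), (25, 1), (28, -1), (33, -1), (35, 1), (39, -1)], [], [], [(0, -1), (1, 1), (15, 1), (20, 1), (28, -1), (29, -1), (35, 1)], [(0, 1), (1, -1), (15, -1), (28, 1), (29, 1), (35, -1)], [(15, 1)], [(15, -1), (29, 1)], [(10, 1)], [(0, -1), (1, 1), (15, 1), (25, 1), (28, -1), (29, -1), (35, 1)], [(0, 1), (1, -1), (3, -1), (10, -1), (25, -1),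 (28, 1), (33, 1), (35, -1), (39, 1)], [(0, -1), (1, 1), (2, -1), (3, 1), (10, 1), (25, 1), (28, -1), (33, -1), (35, 1), (39, -1), (41, 1)], [(0, 1)], [(3, -1), (10, -1), (25, -1), (28, 1), (33, 1), (35, -1), (39, 1), (42, -1), (44, 1)], [(0, -1), (3, 1), (10, 1), (25, 1), (28, -1), (33, -1), (35, 1), (39, -1), (42, 1)], [(1, 1)], [(1, -1), (2, 1), (3, -1), (10, -1), (25, -1), (28, 1), (33, 1), (35, -1), (39, 1), (41, -1), (43, 1)], [(2, 1)], [(1, -1), (15, -1), (25, -1), (28, 1), (29, 1), (35, -1), (40, 1)], [(3, 1), (10, 1), (15, -1), (29, 1), (33, -1)], [(0, -1), (15, 1), (29, -1), (35, 1)], [(0, -1), (1, 1), (4, 1), (10, 1), (15, 1), (25, 1), (28, -1), (29, -1), (35, 1), (36, -1)], [(0, 1), (1, -1), (10, -1), (15, -1), (25, -1), (28, 1), (29, 1), (35, -1), (36, 1)], [(10, -1), (15, 1), (29, -1), (33, 1)], [], [], []]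

end Cfsg.Agent.ChevGroup.CubicE6
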