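import Cfsg.Agent.ChevGroup.CubicE6.Form
import Cfsg.Agent.ChevGroup.Minuscule.All
import Cfsg.Agent.Lib.ChevCore.GoodE6

/-!
The root elements preserve the cubic form; their action on coordinates and the monomial action of the `n`.
-/

set_option autoImplicit false

namespace Cfsg.Agent.ChevGroup.CubicE6

open Cfsg.Lie Cfsg.Agent.ChevCore Cfsg.Agent.ChevGroup.Minu Matrix

/-- The code of the image of a weight. -/
noncomputable def cd6 (r : ℕ) (k : Fin 27) : ℕ := code (tbE6 r) k.val

/-- The weight of a code. -/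
def tgt (c : ℕ) : ℕ := if c < 128 then c - 1 else c - 129

/-- The sign of a code. -/
def sgC (c : ℕ) : ℤ := if c < 128 then 1 else -1

/-- The weights that a root sends to `a`. -/
noncomputable def preL (r : ℕ) (a : Fin 27) : List (Fin 27) :=
  (List.finRange 27).filter fun k => decide (cd6 r k ≠ 0 ∧ tgt (cd6 r k) = a.val)

theorem vecC_eq (c : ℕ) (a : Fin 27) :
    vecC c a = if c ≠ 0 ∧ tgt c = a.val then sgC c else 0 := by
  unfold vecC tgt sgC
  split_ifs <;> omega

variable {F : Type*} [Field F]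

/-- The operator of a root on vectors. -/
noncomputable def opV (r : ℕ) (v : Fin 27 → F) (a : Fin 27) : F :=
  ((preL r a).map fun k => (sgC (cd6 r k) : F) * v k).sum

theorem opV_eq (r : ℕ) (v : Fin 27 → F) (a : Fin 27) :
    opV r v a = ∑ k, ((vecC (cd6 r k) a : ℤ) : F) * v k := by
  rw [opV, preL, ← List.sum_toFinset _ ((List.nodup_finRange 27).filter _), List.toFinset_filter,
    List.toFinset_finRange, Finset.sum_filter]
  refine Finset.sum_congr rfl fun k _ => ?_
  rw [vecC_eq]
  by_cases h : cd6 r k ≠ 0 ∧ tgt (cd6 r k) = a.val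
  · simp [h]
  · simp [h]

variable (F) in
/-- The matrix of a root, of size 27. -/
noncomputable def opM (r : ℕ) : Matrix (Fin 27) (Fin 27) F := opK tableE6 F r

theorem opM_apply (r : ℕ) (row k : Fin 27) : opM F r row k = ((vecC (cd6 r k) row : ℤ) : F) := rfl

theorem opM_sq {r : ℕ} (hr : r < chevE6.nroots) : opM F r * opM F r = 0 := by
  show opK tableE6 F r * opK tableE6 F r = (0 : Matrix (Fin tableE6.N) (Fin tableE6.N) F)
  rw [opK, ← map_mul, opZ_sq tableE6 hr, map_zero]

theorem opM_cube {r : ℕ} (hr : r < chevE6.nroots) (hn : chevE6.neg r < chevE6.nroots) :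
    opM F r * opM F (chevE6.neg r) * opM F r = opM F r := by
  show opK tableE6 F r * opK tableE6 F (chevE6.neg r) * opK tableE6 F r = opK tableE6 F r
  rw [opK, opK, ← map_mul, ← map_mul, opZ_cube tableE6 hr hn]

theorem opM_mul {r s : ℕ} (hr : r < chevE6.nroots) (hs : s < chevE6.nroots) (row k : Fin 27) :
    (opM F r * opM F s) row k = ((vecC (mulC (tbE6 r) (tbE6 s) k.val) row : ℤ) : F) := by
  show (opK tableE6 F r * opK tableE6 F s) row k = _
  rw [opK, opK, ← map_mul]
  exact congrArg _ (opZ_mul tableE6 hr hs row k)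

theorem one1_mulVec (r : ℕ) (t : F) (v : Fin 27 → F) :
    one1 (opM F r) t *ᵥ v = v + t • opV r v := by
  rw [one1, Matrix.add_mulVec, Matrix.one_mulVec, Matrix.smul_mulVec]
  congr 2
  funext a
  rw [opV_eq]
  rfl

/-- Terms of degree one in the parameter. -/
noncomputable def movedT (r : ℕ) (t : Fin 45) : List ((Fin 27 × Fin 27 × Fin 27) × ℤ) :=
  (preL r (tri t).1).map (fun k => ((k, (tri t).2.1, (tri t).2.2.1), (tri t).2.2.2 * sgC (cd6 r k))) ++
  (preL r (tri t).2.1).map (fun k => (((tri t).1, k, (tri t).2.2.1), (tri t).2.2.2 * sgC (cd6 r k))) ++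
  (preL r (tri t).2.2.1).map (fun k => (((tri t).1, (tri t).2.1, k), (tri t).2.2.2 * sgC (cd6 r k)))

/-- At most one factor of a monomial moves. -/
noncomputable def singleMove (r : ℕ) (t : Fin 45) : Bool :=
  let a := (preL r (tri t).1).isEmpty
  let b := (preL r (tri t).2.1).isEmpty
  let c := (preL r (tri t).2.2.1).isEmpty
  (a && b) || (a && c) || (b && c)

/-- Equal up to order. -/
def sameT (x y : Fin 27 × Fin 27 × Fin 27) : Bool :=
  decide (y = (x.1, x.2.1, x.2.2) ∨ y = (x.1, x.2.2, x.2.1) ∨ y = (x.2.1, x.1, x.2.2) ∨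
    y = (x.2.1, x.2.2, x.1) ∨ y = (x.2.2, x.1, x.2.1) ∨ y = (x.2.2, x.2.1, x.1))

/-- The terms cancel in pairs. -/
def cancelB : ℕ → List ((Fin 27 × Fin 27 × Fin 27) × ℤ) → Bool
  | _, [] => true
  | 0, _ :: _ => false
  | n + 1, e :: L =>
    match L.find? (fun y => sameT e.1 y.1 && decide (y.2 = -e.2)) with
    | none => false
    | some y => cancelB n (L.erase y)

/-- The value of a term. -/
def termV (v : Fin 27 → F) (e : (Fin 27 × Fin 27 × Fin 27) × ℤ) : F :=
  (e.2 : F) * (v e.1.1 * v e.1.2.1 * v e.1.2.2)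

theorem sum_of_cancelB (v : Fin 27 → F) : ∀ (n : ℕ) (L : List ((Fin 27 × Fin 27 × Fin 27) × ℤ)),
    cancelB n L = true → (L.map (termV v)).sum = 0
  | _, [], _ => by simp
  | 0, _ :: _, h => by simp [cancelB] at h
  | n + 1, e :: L, h => by
    simp only [cancelB] at h
    split at h
    · simp at h
    next y hy =>
      have hmem := List.mem_of_find?_eq_some hy
      have hp := List.find?_some hy
      simp only [Bool.and_eq_true, decide_eq_true_eq, sameT] at hp
      rw [List.map_cons, List.sum_cons, ((List.perm_cons_erase hmem).map (termV v)).sum_eq,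
        List.map_cons, List.sum_cons, sum_of_cancelB v n _ h, add_zero]
      obtain ⟨hs, hz⟩ := hp
      simp only [termV, hz, Int.cast_neg]
      rcases hs with h | h | h | h | h | h <;> rw [h] <;> ring

/-- Invariance under the root elements of `r`. -/
noncomputable def invB (r : ℕ) : Bool :=
  (List.finRange 45).all (singleMove r) && cancelB 64 ((List.finRange 45).flatMap (movedT r))

theorem invB_all : (List.range 72).all invB = true := by decide +kernel

theorem Tm_one1 {r : ℕ} (hr : r < 72) (t : F) (v : Fin 27 → F) :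
    Tm (v + t • opV r v) = Tm v := by
  have h := List.all_eq_true.1 invB_all r (List.mem_range.2 hr)
  simp only [invB, Bool.and_eq_true, List.all_eq_true] at h
  obtain ⟨h1, h2⟩ := h
  have hterm : ∀ i : Fin 45, ((tri i).2.2.2 : F) *
      ((v + t • opV r v) (tri i).1 * (v + t • opV r v) (tri i).2.1 * (v + t • opV r v) (tri i).2.2.1) =
      ((tri i).2.2.2 : F) * (v (tri i).1 * v (tri i).2.1 * v (tri i).2.2.1) +
        t * ((movedT r i).map (termV v)).sum := by
    intro i
    have hs := h1 i (List.mem_finRange i)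
    simp only [singleMove, Bool.or_eq_true, Bool.and_eq_true, List.isEmpty_iff] at hs
    simp only [movedT, List.map_append, List.sum_append, List.map_map, Function.comp_def, termV,
      Pi.add_apply, Pi.smul_apply, smul_eq_mul, opV, Int.cast_mul]
    rcases hs with (⟨ha, hb⟩ | ⟨ha, hb⟩) | ⟨ha, hb⟩ <;>
      simp only [ha, hb, List.map_nil, List.sum_nil, mul_zero, add_zero, zero_add] <;>
      simp only [mul_add, add_mul, ← List.sum_map_mul_left, ← List.sum_map_mul_right, mul_comm,
        mul_left_comm, mul_assoc]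
  simp only [Tm, hterm, Finset.sum_add_distrib, ← Finset.mul_sum]
  have e : ∑ i, ((movedT r i).map (termV v)).sum =
      (((List.finRange 45).flatMap (movedT r)).map (termV v)).sum := by
    rw [← List.sum_ofFn, List.ofFn_eq_map, List.flatMap_def, List.map_flatten, List.sum_flatten,
      List.map_map, List.map_map]
    rfl
  rw [e, sum_of_cancelB v _ _ h2, mul_zero, add_zero]

/-- The representation. -/
noncomputable def rho6 (F : Type*) [Field F] : chevE6.SteinbergGroup F →* GL (Fin 27) F :=
  Minu.rep tableE6 ChevCore.goodE6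

theorem rho6_xb {r : ℕ} (hr : r < 72) (t : F) :
    ((rho6 F (Stb.xb chevE6 F r t) : GL (Fin 27) F) : Matrix (Fin 27) (Fin 27) F) =
      one1 (opM F r) t := by
  show ((Minu.rep tableE6 ChevCore.goodE6 (PresentedGroup.mk _ (chevE6.stX r t)) :
    (Matrix (Fin tableE6.N) (Fin tableE6.N) F)ˣ) : Matrix (Fin tableE6.N) (Fin tableE6.N) F) =
      one1 (opK tableE6 F r) t
  rw [Minu.rep_mk]
  exact Minu.val_lift tableE6 hr t

theorem rho6_xb_mulVec {r : ℕ} (hr : r < 72) (t : F) (v : Fin 27 → F) :
    ((rho6 F (Stb.xb chevE6 F r t) : GL (Fin 27) F) : Matrix (Fin 27) (Fin 27) F) *ᵥ v =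
      v + t • opV r v := by
  rw [rho6_xb hr, one1_mulVec]

theorem range_le_Iso : (rho6 F).range ≤ Iso F := by
  rw [MonoidHom.range_eq_map, ← Stb.closure_xb, MonoidHom.map_closure, Subgroup.closure_le]
  rintro _ ⟨_, ⟨r, t, hr, rfl⟩, rfl⟩ v
  have hn : chevE6.nroots = 72 := rfl
  show Tm (((rho6 F (Stb.xb chevE6 F r t) : GL (Fin 27) F) : Matrix (Fin 27) (Fin 27) F) *ᵥ v) = Tm v
  rw [rho6_xb_mulVec (hn ▸ hr), Tm_one1 (hn ▸ hr)]

/-! ### The action of `n` -/

/-- The code of the image of a weight under `n`. -/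
noncomputable def stepC (i : Fin 6) (k : Fin 27) : ℕ :=
  let a := cd6 (chevE6.simple i.val) k
  let b := cd6 (chevE6.neg (chevE6.simple i.val)) k
  if a ≠ 0 then a else if b ≠ 0 then flipC b else k.val + 1

/-- The image of a weight under `n`. -/
noncomputable def stepT (i : Fin 6) (k : Fin 27) : Fin 27 := Fin.ofNat 27 (tgt (stepC i k))

/-- The formula for `n` agrees with `stepC`. -/
noncomputable def stepB (i : Fin 6) : Bool :=
  let a := tbE6 (chevE6.simple i.val)
  let b := tbE6 (chevE6.neg (chevE6.simple i.val))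
  (List.finRange 27).all fun k => decide (stepC i k ≠ 0 ∧ tgt (stepC i k) < 27) &&
    (List.finRange 27).all fun row => decide
      ((if row = k then 1 else 0) - vecC (mulC a b k.val) row - vecC (mulC b a k.val) row +
        vecC (code a k.val) row - vecC (code b k.val) row = vecC (stepC i k) row)

theorem stepB_all : (List.finRange 6).all stepB = true := by decide +kernel

theorem rho6_nb_mulVec (i : Fin 6) (k : Fin 27) :
    ∃ c : F, c ≠ 0 ∧ ((rho6 F (Stb.nb chevE6 F (chevE6.simple i.val) 1) : GL (Fin 27) F) :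
      Matrix (Fin 27) (Fin 27) F) *ᵥ (Pi.single k 1) = c • Pi.single (stepT i k) 1 := by
  have hG := ChevCore.goodE6
  set p := chevE6.simple i.val with hp
  have hpl : p < chevE6.nroots := hG.simple_lt i.isLt
  have hql : chevE6.neg p < chevE6.nroots := hG.neg_lt hpl
  have hn : chevE6.nroots = 72 := rfl
  have e : ((rho6 F (Stb.nb chevE6 F p 1) : GL (Fin 27) F) : Matrix (Fin 27) (Fin 27) F) =
      (1 - opM F p * opM F (chevE6.neg p) - opM F (chevE6.neg p) * opM F p) +
        (1 : F) • opM F p - (1 : F)⁻¹ • opM F (chevE6.neg p) := by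
    rw [← nn_eq (opM_sq hpl) (opM_cube hpl hql) one_ne_zero]
    simp only [Stb.nb, map_mul, Units.val_mul, rho6_xb (hn ▸ hpl), rho6_xb (hn ▸ hql)]
  have h := List.all_eq_true.1 stepB_all i (List.mem_finRange i)
  simp only [stepB, List.all_eq_true, Bool.and_eq_true, decide_eq_true_eq] at h
  obtain ⟨⟨h0, hlt⟩, hrow⟩ := h k (List.mem_finRange k)
  refine ⟨(sgC (stepC i k) : F), by unfold sgC; split_ifs <;> simp, funext fun row => ?_⟩
  have hc := congrArg (fun z : ℤ => (z : F)) (hrow row (List.mem_finRange row))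
  rw [Matrix.mulVec_single_one, e, one_smul, inv_one, one_smul]; rw [vecC_eq (stepC i k)] at hc
  simp only [Matrix.col_apply, Matrix.sub_apply, Matrix.add_apply, Matrix.one_apply, opM_apply,
    Pi.smul_apply, smul_eq_mul, Pi.single_apply]
  rw [opM_mul hpl hql, opM_mul hql hpl]
  rw [show stepT i k = ⟨tgt (stepC i k), hlt⟩ from Fin.ext (Nat.mod_eq_of_lt hlt)]
  simp only [Fin.ext_iff, ne_eq, h0, not_false_eq_true, true_and, Int.cast_sub, Int.cast_add,
    apply_ite (fun z : ℤ => (z : F)), Int.cast_one, Int.cast_zero] at hc ⊢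
  refine hc.trans ?_
  by_cases hr : tgt (stepC i k) = row.val
  · simp [hr]
  · rw [if_neg hr, if_neg (Ne.symm hr), mul_zero]

end Cfsg.Agent.ChevGroup.CubicE6
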