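import Cfsg.Agent.ChevGroup.CubicE6.Reduce
import Cfsg.Agent.ChevGroup.Steinberg.All
import Cfsg.Agent.ChevGroup.Mat.SimpleE6
import Cfsg.Prelude.Def_LieChev

/-!
The isometry group of the cubic form is Steinberg's group of type E6, hence modulo its centre the Chevalley group.
-/

set_option autoImplicit false

namespace Cfsg.Agent.ChevGroup.CubicE6

open Cfsg.Lie Cfsg.Agent.ChevCore Cfsg.Agent.ChevGroup.Minu Matrix

variable {F : Type*} [Field F]

/-- The weight exponent. -/
def wt (k : Fin 27) (i : Fin 6) : ℤ := (wtE6.getD k.val []).getD i.val 0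

/-- The torus map. -/
noncomputable def psiV (F : Type*) [Field F] : (Fin 6 → Fˣ) →* chevE6.SteinbergGroup F :=
  Stb.psi Stb.certE6

theorem psiV_eq_prod (c : Fin 6 → Fˣ) :
    psiV F c = (List.ofFn fun i : Fin 6 => Stb.hb chevE6 F (chevE6.simple i.val) (c i : F)).prod :=
  Stb.psi_eq_prod Stb.certE6 c

theorem rho6_psi (c : Fin 6 → Fˣ) :
    ((rho6 F (psiV F c) : GL (Fin 27) F) : Matrix (Fin 27) (Fin 27) F) =
      Matrix.diagonal fun k => ((∏ i, c i ^ wt k i : Fˣ) : F) := by
  have hd : ∀ L : List (Fin 6), ((rho6 F ((L.map fun i : Fin 6 =>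
      Stb.hb chevE6 F (chevE6.simple i.val) (c i : F)).prod) : GL (Fin 27) F) : Matrix (Fin 27) (Fin 27) F) =
      Matrix.diagonal fun k => (((L.map fun i => c i ^ wt k i).prod : Fˣ) : F) := by
    intro L
    induction L with
    | nil => simp
    | cons i L ih =>
      have h1 : ((rho6 F (Stb.hb chevE6 F (chevE6.simple i.val) (c i : F)) : GL (Fin 27) F) :
          Matrix (Fin 27) (Fin 27) F) = Matrix.diagonal fun k => ((c i ^ wt k i : Fˣ) : F) := by
        simp only [Units.val_zpow_eq_zpow_val]
        rw [← Stb.mk_stH]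
        exact rep_hb tableE6 ChevCore.goodE6 weightE6 i.isLt (c i).ne_zero
      simp only [List.map_cons, List.prod_cons, map_mul, Units.val_mul, ih, h1,
        Matrix.diagonal_mul_diagonal]
  rw [psiV_eq_prod, List.ofFn_eq_map]
  refine (hd _).trans ?_
  simp only [← List.ofFn_eq_map, List.prod_ofFn]

/-- The monomial with exponent vector `v`. -/
def mono (d : Fin 27 → Fˣ) (v : Fin 27 → ℤ) : Fˣ := ∏ k, d k ^ v k

theorem mono_add (d : Fin 27 → Fˣ) (v w : Fin 27 → ℤ) : mono d (v + w) = mono d v * mono d w := by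
  simp [mono, _root_.zpow_add, Finset.prod_mul_distrib]

theorem mono_smul (d : Fin 27 → Fˣ) (a : ℤ) (v : Fin 27 → ℤ) : mono d (a • v) = mono d v ^ a := by
  simp only [mono, ← Finset.prod_zpow]
  refine Finset.prod_congr rfl fun k _ => ?_
  rw [Pi.smul_apply, smul_eq_mul, mul_comm, _root_.zpow_mul]

theorem mono_zero (d : Fin 27 → Fˣ) : mono d 0 = 1 := by simp [mono]

theorem mono_sum (d : Fin 27 → Fˣ) {ι : Type*} (s : Finset ι) (f : ι → Fin 27 → ℤ) :
    mono d (∑ i ∈ s, f i) = ∏ i ∈ s, mono d (f i) := by
  classical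
  induction s using Finset.induction_on with
  | empty => simp [mono_zero]
  | insert a s ha ih => rw [Finset.sum_insert ha, Finset.prod_insert ha, mono_add, ih]

/-- The exponent vector of a combination. -/
def avec (j : Fin 6) (m : Fin 27) : ℤ :=
  ((combList.getD j.val []).map fun e => if e.1 = m.val then e.2 else 0).sum

/-- The indicator of a monomial. -/
def ind (t : Fin 45) (m : Fin 27) : ℤ := if inT m t then 1 else 0

/-- The exponent vector of a combination of monomials. -/
def rvec : List (Fin 45 × ℤ) → Fin 27 → ℤ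
  | [] => 0
  | e :: L => e.2 • ind e.1 + rvec L

theorem comb_B : ((List.finRange 27).all fun k => (List.finRange 27).all fun m => decide
    ((∑ j, wt k j * avec j m) + rvec (relList.getD k.val []) m = if m = k then 1 else 0)) = true := by
  decide +kernel

theorem mono_ind (d : Fin 27 → Fˣ) (t : Fin 45) :
    mono d (ind t) = d (tri t).1 * d (tri t).2.1 * d (tri t).2.2.1 := by
  obtain ⟨h12, h13, h23, -⟩ := linkB_dist (F := F) t
  have e : ∀ k, d k ^ ind t k = (if k = (tri t).1 then d k else 1) *
      (if k = (tri t).2.1 then d k else 1) * (if k = (tri t).2.2.1 then d k else 1) := by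
    intro k
    simp only [ind, inT, decide_eq_true_eq]
    by_cases e1 : k = (tri t).1
    · subst e1; simp [h12, h13]
    by_cases e2 : k = (tri t).2.1
    · subst e2; simp [Ne.symm h12, h23]
    by_cases e3 : k = (tri t).2.2.1
    · subst e3; simp [Ne.symm h13, Ne.symm h23]
    · simp [e1, e2, e3, Ne.symm e1, Ne.symm e2, Ne.symm e3]
  simp only [mono, e, Finset.prod_mul_distrib, Finset.prod_ite_eq', Finset.mem_univ, if_true]

/-- A diagonal isometry lies in the torus. -/
theorem torus_of_prod (d : Fin 27 → Fˣ) (hd : ∀ t, d (tri t).1 * d (tri t).2.1 * d (tri t).2.2.1 = 1)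
    (k : Fin 27) : d k = ∏ j, mono d (avec j) ^ wt k j := by
  have hr : ∀ L, mono d (rvec L) = 1 := by
    intro L
    induction L with
    | nil => exact mono_zero d
    | cons e L ih => rw [rvec, mono_add, mono_smul, mono_ind, hd, _root_.one_zpow, one_mul, ih]
  have h : (∑ j, wt k j • avec j) + rvec (relList.getD k.val []) = fun m => if m = k then 1 else 0 := by
    funext m
    have h := List.all_eq_true.1 (List.all_eq_true.1 comb_B k (List.mem_finRange k)) m (List.mem_finRange m)
    rw [decide_eq_true_eq] at h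
    rw [← h]
    simp [Finset.sum_apply]
  have h' := congrArg (mono d) h
  rw [mono_add, hr, mul_one, mono_sum] at h'
  simp only [mono_smul] at h'
  rw [h', mono]
  simp [Finset.prod_ite_eq']

theorem range_eq_Iso (hbig : Big F) : (rho6 F).range = Iso F := by
  refine le_antisymm range_le_Iso fun g hg => ?_
  obtain ⟨u, hu, h⟩ := reduce hbig hg
  have hg' : u * g ∈ Iso F := mul_mem (range_le_Iso hu) hg
  choose d hd0 hd using h
  set du : Fin 27 → Fˣ := fun k => Units.mk0 (d k) (hd0 k)
  have hprod : ∀ t, du (tri t).1 * du (tri t).2.1 * du (tri t).2.2.1 = 1 := by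
    intro t
    have hT : triB (tri t).1 (tri t).2.1 (tri t).2.2.1 t = true := by simp [triB, sameT]
    have h3 := pP_act hbig hg' (bv (tri t).1) (bv (tri t).2.1) (bv (tri t).2.2.1)
    rw [hd, hd, hd, pP_smul, pP_swap (bv _) (bv _), show (bv (tri t).1 : Fin 27 → F) =
      (1 : F) • bv (tri t).1 by rw [one_smul], pP_smul, one_smul, pP_swap (bv _) (bv _), pP_bv hT,
      bv_apply, if_pos rfl] at h3
    refine Units.ext ?_
    simp only [du, Units.val_mul, Units.val_mk0, Units.val_one]
    refine mul_right_cancel₀ (linkB_dist (F := F) t).2.2.2 ?_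
    linear_combination h3
  have key : u * g = rho6 F (psiV F fun j => mono du (avec j)) := by
    apply Units.ext
    rw [rho6_psi]
    ext a k
    have h2 := congrFun (hd k) a
    simp only [act, bv, Matrix.mulVec_single_one, Matrix.col_apply, Pi.smul_apply, smul_eq_mul,
      Pi.single_apply] at h2
    rw [h2, Matrix.diagonal_apply]
    rcases eq_or_ne a k with rfl | hne
    · rw [if_pos rfl, if_pos rfl, mul_one, ← torus_of_prod du hprod a]
      rfl
    · rw [if_neg hne, if_neg hne, mul_zero]
  have e : g = u⁻¹ * (u * g) := by rw [inv_mul_cancel_left]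
  rw [e, key]
  exact mul_mem (inv_mem hu) ⟨_, rfl⟩

theorem rho6_injective : Function.Injective (rho6 F) := by
  have hC := Stb.certE6
  have hz : ∀ x ∈ Subgroup.center (chevE6.SteinbergGroup F), ∃ c, psiV F c = x := by
    intro x hx
    rw [Stb.center_eq_map hC TypeE6.model TypeE6.wit_ok TypeE6.longest_ok] at hx
    obtain ⟨c, -, e⟩ := hx
    exact ⟨c, e⟩
  have hker := Stb.ker_eq_center (K := F) TypeE6.model hC hC.toUGood.toCommGood TypeE6.wit_ok
    TypeE6.longest_ok
  rw [injective_iff_map_eq_one]
  intro x hx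
  haveI := (TypeE6.isSimple F).1
  have hsur := Stb.th_surjective (K := F) hC.toUGood.toCommGood
  haveI hn : ((rho6 F).ker.map (Stb.th hC.toUGood.toCommGood)).Normal :=
    (MonoidHom.normal_ker _).map _ hsur
  rcases hn.eq_bot_or_eq_top with hb | ht
  · have h1 : x ∈ Subgroup.center (chevE6.SteinbergGroup F) := by
      rw [← hker, MonoidHom.mem_ker, ← Subgroup.mem_bot, ← hb]
      exact ⟨x, hx, rfl⟩
    obtain ⟨c, rfl⟩ := hz x h1
    have h2 : ∀ k, ∏ i, c i ^ wt k i = 1 := by
      intro k
      have h3 := congrArg (fun g : GL (Fin 27) F => (g : Matrix (Fin 27) (Fin 27) F) k k) hx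
      simp only [rho6_psi, Matrix.diagonal_apply_eq, Units.val_one, Matrix.one_apply_eq] at h3
      exact Units.ext h3
    have h4 : c = 1 := by
      funext j
      have hs : ∀ i : Fin 6, (∑ m, avec j m * wt m i) = if i = j then (1 : ℤ) else 0 := by
        revert j; decide +kernel
      calc c j = ∏ i, c i ^ (if i = j then (1 : ℤ) else 0) := by
            rw [Finset.prod_eq_single j]
            · simp
            · intro i _ hi; simp [hi]
            · simp
        _ = ∏ i, ∏ m, (c i ^ wt m i) ^ avec j m := by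
            refine Finset.prod_congr rfl fun i _ => ?_
            rw [← hs i]
            induction (Finset.univ : Finset (Fin 27)) using Finset.induction_on with
            | empty => simp
            | insert a s ha ih =>
              rw [Finset.sum_insert ha, Finset.prod_insert ha, _root_.zpow_add, ih, ← _root_.zpow_mul, mul_comm (avec j a)]
        _ = 1 := by
            rw [Finset.prod_comm]
            refine Finset.prod_eq_one fun m _ => ?_
            rw [Finset.prod_zpow, h2, _root_.one_zpow]
    rw [h4, map_one]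
  · exfalso
    obtain ⟨k, hk⟩ : ∃ k : Fin 27, stepT 0 k ≠ k := by decide +kernel
    obtain ⟨d, hd, he⟩ := rho6_nb_mulVec (F := F) 0 k
    set n := Stb.nb chevE6 F (chevE6.simple (0 : Fin 6).val) 1
    obtain ⟨y, hy, hy'⟩ : Stb.th hC.toUGood.toCommGood n ∈
        (rho6 F).ker.map (Stb.th hC.toUGood.toCommGood) := by rw [ht]; trivial
    obtain ⟨c, hc⟩ := hz (n * y⁻¹) (by
      rw [← hker, MonoidHom.mem_ker, map_mul, map_inv, hy', mul_inv_cancel])
    have e : rho6 F n = rho6 F (psiV F c) := by
      rw [hc, map_mul, map_inv, MonoidHom.mem_ker.1 hy, inv_one, mul_one]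
    rw [e, rho6_psi, Matrix.mulVec_single_one] at he
    have h5 := congrFun he (stepT 0 k)
    simp [Matrix.diagonal_apply_ne _ hk] at h5
    exact hd h5.symm

/-! ### The change of coordinates -/

/-- The diagonal of signs. -/
def sgnD : Matrix (Fin 27) (Fin 27) F := Matrix.diagonal fun k => (delS k : F)

theorem sgnD_sq : (sgnD : Matrix (Fin 27) (Fin 27) F) * sgnD = 1 := by
  rw [sgnD, Matrix.diagonal_mul_diagonal, ← Matrix.diagonal_one]
  congr 1
  funext k
  rw [← Int.cast_mul, delS_sq, Int.cast_one]

/-- Matrices in the two systems of coordinates. -/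
noncomputable def coordE : Matrix I27 I27 F ≃* Matrix (Fin 27) (Fin 27) F where
  toFun M := sgnD * M.submatrix posE posE * sgnD
  invFun M := (sgnD * M * sgnD).submatrix posE.symm posE.symm
  left_inv M := by
    simp only [← mul_assoc, sgnD_sq, one_mul]
    rw [mul_assoc, sgnD_sq, mul_one, Matrix.submatrix_submatrix]
    simp
  right_inv M := by
    simp only [Matrix.submatrix_submatrix]
    simp only [Equiv.symm_comp_self, Matrix.submatrix_id_id, ← mul_assoc, sgnD_sq, one_mul]
    rw [mul_assoc, sgnD_sq, mul_one]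
  map_mul' M N := by
    rw [← Matrix.submatrix_mul_equiv M N posE posE posE]
    simp only [mul_assoc]
    rw [← mul_assoc (sgnD : Matrix (Fin 27) (Fin 27) F) sgnD, sgnD_sq, one_mul]

theorem toW_eq (v : I27 → F) : toW v = sgnD *ᵥ (v ∘ posE) := by
  funext k
  simp [toW, sgnD, Matrix.mulVec_diagonal, posE]

theorem coordE_mulVec (M : Matrix I27 I27 F) (v : I27 → F) : coordE M *ᵥ toW v = toW (M *ᵥ v) := by
  rw [toW_eq, toW_eq, Matrix.mulVec_mulVec]
  show (sgnD * M.submatrix posE posE * sgnD * sgnD) *ᵥ (v ∘ posE) = _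
  rw [mul_assoc, sgnD_sq, mul_one, ← Matrix.mulVec_mulVec, Matrix.submatrix_mulVec_equiv]
  simp [Function.comp_def]

theorem toW_surjective : Function.Surjective (toW (F := F)) := fun w => by
  refine ⟨fun i => (delS (posE.symm i) : F) * w (posE.symm i), ?_⟩
  funext k
  have e : posE.symm (posI k) = k := posE.symm_apply_apply k
  simp only [toW, e]
  rw [← mul_assoc, ← Int.cast_mul, delS_sq, Int.cast_one, one_mul]

theorem map_E6univ :
    (E6univ F).map (Units.mapEquiv (coordE (F := F))).toMonoidHom = Iso F := by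
  ext g
  obtain ⟨h, rfl⟩ := (Units.mapEquiv (coordE (F := F))).surjective g
  rw [Subgroup.mem_map_equiv, MulEquiv.symm_apply_apply]
  rw [mem_Iso]
  have hg : ((globSign : ℤ) : F) ≠ 0 := by simp [globSign]
  constructor
  · intro hh w
    obtain ⟨v, rfl⟩ := toW_surjective w
    show Tm (coordE (h : Matrix I27 I27 F) *ᵥ toW v) = _
    rw [coordE_mulVec, Tm_toW, Tm_toW]
    exact congrArg _ (hh v)
  · intro hh v
    have h1 : Tm (coordE (h : Matrix I27 I27 F) *ᵥ toW v) = Tm (toW v) := hh (toW v)
    rw [coordE_mulVec, Tm_toW, Tm_toW] at h1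
    exact mul_left_cancel₀ hg h1

theorem equiv_of_big (hbig : Big F) : Nonempty (E6 F ≃* ↥(chevE6.group F)) := by
  have hC := Stb.certE6
  let e1 : ↥(E6univ F) ≃* ↥(Iso F) :=
    ((Units.mapEquiv (coordE (F := F))).subgroupMap (E6univ F)).trans
      (MulEquiv.subgroupCongr map_E6univ)
  let e2 : chevE6.SteinbergGroup F ≃* ↥(Iso F) :=
    (MonoidHom.ofInjective rho6_injective).trans (MulEquiv.subgroupCongr (range_eq_Iso hbig))
  let e := e1.trans e2.symm
  have hc : (Subgroup.center ↥(E6univ F)).map e.toMonoidHom =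
      Subgroup.center (chevE6.SteinbergGroup F) := by
    ext x
    obtain ⟨y, rfl⟩ := e.surjective x
    rw [Subgroup.mem_map_equiv, MulEquiv.symm_apply_apply, Subgroup.mem_center_iff,
      Subgroup.mem_center_iff]
    constructor
    · intro h z
      obtain ⟨z, rfl⟩ := e.surjective z
      rw [← map_mul, ← map_mul, h]
    · intro h z
      exact e.injective (by rw [map_mul, map_mul, h])
  exact ⟨(QuotientGroup.congr _ _ e hc).trans ((QuotientGroup.quotientMulEquivOfEq
    (Stb.ker_eq_center (K := F) TypeE6.model hC hC.toUGood.toCommGood TypeE6.wit_ok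
      TypeE6.longest_ok).symm).trans
    (QuotientGroup.quotientKerEquivOfSurjective _ (Stb.th_surjective _)))⟩

end Cfsg.Agent.ChevGroup.CubicE6
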