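import Cfsg.Prelude.Def_E6
import Cfsg.Agent.ChevGroup.CubicE6.Data

/-!
The cubic form in weight coordinates, its polar forms, and the change of coordinates to `cubicT`.
-/

set_option autoImplicit false

namespace Cfsg.Agent.ChevGroup.CubicE6

open Cfsg.Lie Matrix

/-- A monomial. -/
def tri (t : Fin 45) : Fin 27 × Fin 27 × Fin 27 × ℤ := triList.getD t.val (0, 0, 0, 0)

variable {F : Type*} [Field F]

/-- The cubic form. -/
def Tm (v : Fin 27 → F) : F :=
  ∑ t, ((tri t).2.2.2 : F) * (v (tri t).1 * v (tri t).2.1 * v (tri t).2.2.1)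

/-- Quadratic in `v`, linear in `w`. -/
def pA (v w : Fin 27 → F) : F :=
  ∑ t, ((tri t).2.2.2 : F) * (w (tri t).1 * v (tri t).2.1 * v (tri t).2.2.1 +
    v (tri t).1 * w (tri t).2.1 * v (tri t).2.2.1 + v (tri t).1 * v (tri t).2.1 * w (tri t).2.2.1)

/-- The symmetric trilinear form. -/
def pP (u v w : Fin 27 → F) : F :=
  ∑ t, ((tri t).2.2.2 : F) *
    (u (tri t).1 * v (tri t).2.1 * w (tri t).2.2.1 + u (tri t).1 * w (tri t).2.1 * v (tri t).2.2.1 +
     v (tri t).1 * u (tri t).2.1 * w (tri t).2.2.1 + v (tri t).1 * w (tri t).2.1 * u (tri t).2.2.1 +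
     w (tri t).1 * u (tri t).2.1 * v (tri t).2.2.1 + w (tri t).1 * v (tri t).2.1 * u (tri t).2.2.1)

theorem Tm_line (v w : Fin 27 → F) (t : F) :
    Tm (v + t • w) = Tm v + t * pA v w + t ^ 2 * pA w v + t ^ 3 * Tm w := by
  simp only [Tm, pA, Finset.mul_sum, ← Finset.sum_add_distrib]
  refine Finset.sum_congr rfl fun i _ => ?_
  simp only [Pi.add_apply, Pi.smul_apply, smul_eq_mul]
  ring

theorem pP_eq (u v w : Fin 27 → F) : pP u v w = pA (u + v) w - pA u w - pA v w := by
  simp only [pP, pA, ← Finset.sum_sub_distrib]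
  refine Finset.sum_congr rfl fun i _ => ?_
  simp only [Pi.add_apply]
  ring

theorem pP_swap (u v w : Fin 27 → F) : pP u v w = pP u w v := by
  refine Finset.sum_congr rfl fun i _ => ?_
  ring

theorem pP_smul (a b : F) (u v w : Fin 27 → F) : pP (a • u) (b • v) w = a * b * pP u v w := by
  simp only [pP, Finset.mul_sum]
  refine Finset.sum_congr rfl fun i _ => ?_
  simp only [Pi.smul_apply, smul_eq_mul]
  ring

variable (F) in
/-- The isometry group in weight coordinates. -/
def Iso : Subgroup (GL (Fin 27) F) := funStab F Tm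

theorem mem_Iso {g : GL (Fin 27) F} :
    g ∈ Iso F ↔ ∀ v, Tm ((g : Matrix (Fin 27) (Fin 27) F) *ᵥ v) = Tm v := Iff.rfl

/-- With a scalar different from `0` and `1` an isometry preserves the polar form. -/
theorem pA_inv {g : GL (Fin 27) F} (hg : g ∈ Iso F) {t : F} (ht0 : t ≠ 0) (ht1 : t ≠ 1)
    (v w : Fin 27 → F) :
    pA ((g : Matrix (Fin 27) (Fin 27) F) *ᵥ v) ((g : Matrix (Fin 27) (Fin 27) F) *ᵥ w) = pA v w := by
  set M := (g : Matrix (Fin 27) (Fin 27) F)
  have h : ∀ s : F, Tm (M *ᵥ v + s • (M *ᵥ w)) = Tm (v + s • w) := fun s => by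
    rw [← Matrix.mulVec_smul, ← Matrix.mulVec_add]
    exact hg _
  have h1 := h 1
  have h2 := h t
  have hM : ∀ x, Tm (M *ᵥ x) = Tm x := hg
  simp only [Tm_line, hM] at h1 h2
  have e : (t ^ 2 - t) * (pA (M *ᵥ v) (M *ᵥ w) - pA v w) = 0 := by
    linear_combination t ^ 2 * h1 - h2
  have hne : t ^ 2 - t ≠ 0 := by
    rw [show t ^ 2 - t = t * (t - 1) by ring]
    exact mul_ne_zero ht0 (sub_ne_zero.2 ht1)
  exact sub_eq_zero.1 ((mul_eq_zero.1 e).resolve_left hne)

theorem pP_inv {g : GL (Fin 27) F} (hg : g ∈ Iso F) {t : F} (ht0 : t ≠ 0) (ht1 : t ≠ 1)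
    (u v w : Fin 27 → F) :
    pP ((g : Matrix (Fin 27) (Fin 27) F) *ᵥ u) ((g : Matrix (Fin 27) (Fin 27) F) *ᵥ v)
      ((g : Matrix (Fin 27) (Fin 27) F) *ᵥ w) = pP u v w := by
  simp only [pP_eq, ← Matrix.mulVec_add, pA_inv hg ht0 ht1]

/-! ### Coordinates -/

/-- The coordinate of a weight among the three matrices. -/
def posI (k : Fin 27) : I27 :=
  let m := (sigList.getD k.val 0).val
  (Fin.ofNat 3 (m / 9), Fin.ofNat 3 (m / 3), Fin.ofNat 3 m)

theorem posI_bijective : Function.Bijective posI :=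
  (Fintype.bijective_iff_injective_and_card _).2 ⟨by decide +kernel, by simp⟩

/-- The signs. -/
def delS (k : Fin 27) : ℤ := delList.getD k.val 1

theorem delS_sq : ∀ k, delS k * delS k = 1 := by decide +kernel

/-- Weights and matrix positions. -/
noncomputable def posE : Fin 27 ≃ I27 := Equiv.ofBijective posI posI_bijective

/-- The change of coordinates. -/
def toW (v : I27 → F) : Fin 27 → F := fun k => (delS k : F) * v (posI k)

set_option maxHeartbeats 1600000 in
theorem Tm_toW (v : I27 → F) : Tm (toW v) = (globSign : F) * cubicT v := by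
  simp only [Tm, Fin.sum_univ_succ, Fin.sum_univ_zero, tri, triList, Fin.val_succ, Fin.val_zero,
    List.getD_cons_succ, List.getD_cons_zero, toW, posI, sigList, delS, delList, globSign,
    cubicT, mat3, Matrix.det_fin_three, Matrix.trace_fin_three, Matrix.mul_apply, Fin.sum_univ_three,
    Matrix.of_apply]
  simp [Fin.ofNat]
  ring

end Cfsg.Agent.ChevGroup.CubicE6
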