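import Cfsg.Agent.ChevGroup.CubicE6.Checks

/-!
Values of the polar forms at basis vectors and what they force on the column of an isometry.
-/

set_option autoImplicit false

namespace Cfsg.Agent.ChevGroup.CubicE6

open Cfsg.Lie Cfsg.Agent.ChevCore Cfsg.Agent.ChevGroup.Minu Matrix

variable {F : Type*} [Field F]

/-- A basis vector. -/
def bv (k : Fin 27) : Fin 27 → F := Pi.single k 1

theorem bv_apply (k j : Fin 27) : (bv k : Fin 27 → F) j = if j = k then 1 else 0 := by
  simp [bv, Pi.single_apply]

theorem linkB_dist (t : Fin 45) : (tri t).1 ≠ (tri t).2.1 ∧ (tri t).1 ≠ (tri t).2.2.1 ∧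
    (tri t).2.1 ≠ (tri t).2.2.1 ∧ ((tri t).2.2.2 : F) ≠ 0 := by
  have h := linkB_true
  simp only [linkB, Bool.and_eq_true, List.all_eq_true, List.mem_finRange, decide_eq_true_eq,
    forall_true_left] at h
  obtain ⟨h1, h2, h3, h4⟩ := h.1.1 t
  refine ⟨h1, h2, h3, ?_⟩
  rcases h4 with e | e <;> simp [e]

theorem share_self (a : Fin 27) : share a a = false := by
  have h := linkB_true
  simp only [linkB, Bool.and_eq_true, List.all_eq_true, List.mem_finRange, Bool.not_eq_true',
    forall_true_left] at h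
  exact h.1.2 a

theorem share_of_inT {a b : Fin 27} (hab : a ≠ b) {t : Fin 45} (ha : inT a t = true) (hb : inT b t = true) :
    share a b = true := by
  have h := linkB_true
  simp only [linkB, Bool.and_eq_true, List.all_eq_true, List.mem_finRange, forall_true_left] at h
  have h2 := h.2 a b
  rw [if_neg hab, beq_iff_eq] at h2
  have hm : t ∈ (List.finRange 45).filter fun t => inT a t && inT b t := by simp [ha, hb]
  by_contra hs
  rw [if_neg hs] at h2
  rw [List.length_eq_zero_iff.1 h2] at hm
  exact absurd hm (by simp)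

theorem inT_unique {a b : Fin 27} (hab : a ≠ b) {t t' : Fin 45} (ha : inT a t = true) (hb : inT b t = true)
    (ha' : inT a t' = true) (hb' : inT b t' = true) : t = t' := by
  have h := linkB_true
  simp only [linkB, Bool.and_eq_true, List.all_eq_true, List.mem_finRange, forall_true_left] at h
  have h2 := h.2 a b
  rw [if_neg hab, beq_iff_eq, if_pos (share_of_inT hab ha hb)] at h2
  obtain ⟨x, hx⟩ := List.length_eq_one_iff.1 h2
  have hm : ∀ y, inT a y = true → inT b y = true → y = x := fun y h1 h1' => by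
    have hy : y ∈ (List.finRange 45).filter fun t => inT a t && inT b t := by simp [h1, h1']
    rw [hx, List.mem_singleton] at hy
    exact hy
  rw [hm t ha hb, hm t' ha' hb']

theorem exists_inT {a b : Fin 27} (h : share a b = true) : ∃ t, inT a t = true ∧ inT b t = true := by
  have hab : a ≠ b := fun e => by rw [e, share_self] at h; exact Bool.noConfusion h
  have hl := linkB_true
  simp only [linkB, Bool.and_eq_true, List.all_eq_true, List.mem_finRange, forall_true_left] at hl
  have h2 := hl.2 a b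
  rw [if_neg hab, beq_iff_eq, if_pos h] at h2
  obtain ⟨x, hx⟩ := List.length_eq_one_iff.1 h2
  have hm : x ∈ (List.finRange 45).filter fun t => inT a t && inT b t := by rw [hx]; simp
  simp only [List.mem_filter, Bool.and_eq_true] at hm
  exact ⟨x, hm.2⟩

/-- The value of the trilinear form on a monomial. -/
theorem pP_bv {a x b : Fin 27} {t0 : Fin 45} (ht : triB a x b t0 = true) (v : Fin 27 → F) :
    pP (bv a) v (bv b) = ((tri t0).2.2.2 : F) * v x := by
  obtain ⟨h12, h13, h23, -⟩ := linkB_dist (F := F) t0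
  simp only [triB, sameT, decide_eq_true_eq, Prod.mk.injEq] at ht
  have hmem : a ≠ b ∧ inT a t0 = true ∧ inT b t0 = true := by
    simp only [inT, decide_eq_true_eq]
    rcases ht with h | h | h | h | h | h <;> obtain ⟨rfl, rfl, rfl⟩ := h <;>
      simp [h12, h13, h23, Ne.symm h12, Ne.symm h13, Ne.symm h23]
  obtain ⟨hab, ha, hb⟩ := hmem
  simp only [pP]
  rw [Finset.sum_eq_single t0]
  · rcases ht with h | h | h | h | h | h <;> obtain ⟨rfl, rfl, rfl⟩ := h <;>
      simp [bv_apply, h12, h13, h23, Ne.symm h12, Ne.symm h13, Ne.symm h23]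
  · intro t _ hne
    have hn : ¬(inT a t = true ∧ inT b t = true) := fun h => hne (inT_unique hab h.1 h.2 ha hb)
    simp only [inT, decide_eq_true_eq] at hn
    by_cases h1 : (tri t).1 = a ∨ (tri t).2.1 = a ∨ (tri t).2.2.1 = a
    · have h2 : ¬(tri t).1 = b ∧ ¬(tri t).2.1 = b ∧ ¬(tri t).2.2.1 = b := by tauto
      simp [bv_apply, h2.1, h2.2.1, h2.2.2]
    · push Not at h1
      simp [bv_apply, h1.1, h1.2.1, h1.2.2]
  · simp

/-- The trilinear form sees only the coordinates sharing a monomial with `a`. -/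
theorem pP_bv_zero {a : Fin 27} {v : Fin 27 → F} (h : ∀ x, share a x = true → v x = 0) (y : Fin 27 → F) :
    pP (bv a) v y = 0 := by
  refine Finset.sum_eq_zero fun t _ => ?_
  obtain ⟨h12, h13, h23, -⟩ := linkB_dist (F := F) t
  have hv : inT a t = true → ∀ x, x ≠ a → inT x t = true → v x = 0 := fun ha x hx hxt =>
    h x (share_of_inT (Ne.symm hx) ha hxt)
  simp only [inT, decide_eq_true_eq] at hv
  by_cases e1 : (tri t).1 = a
  · subst e1
    simp [bv_apply, Ne.symm h12, Ne.symm h13, hv (Or.inl rfl) _ (Ne.symm h12) (Or.inr (Or.inl rfl)),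
      hv (Or.inl rfl) _ (Ne.symm h13) (Or.inr (Or.inr rfl))]
  by_cases e2 : (tri t).2.1 = a
  · subst e2
    simp [bv_apply, h12, Ne.symm h23, hv (Or.inr (Or.inl rfl)) _ h12 (Or.inl rfl),
      hv (Or.inr (Or.inl rfl)) _ (Ne.symm h23) (Or.inr (Or.inr rfl))]
  by_cases e3 : (tri t).2.2.1 = a
  · subst e3
    simp [bv_apply, h13, h23, hv (Or.inr (Or.inr rfl)) _ h13 (Or.inl rfl),
      hv (Or.inr (Or.inr rfl)) _ h23 (Or.inr (Or.inl rfl))]
  · simp [bv_apply, e1, e2, e3]

theorem pA_bv_left (k : Fin 27) (y : Fin 27 → F) : pA (bv k) y = 0 := by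
  refine Finset.sum_eq_zero fun t _ => ?_
  obtain ⟨h12, h13, h23, -⟩ := linkB_dist (F := F) t
  by_cases e1 : (tri t).1 = k
  · subst e1; simp [bv_apply, Ne.symm h12, Ne.symm h13]
  by_cases e2 : (tri t).2.1 = k
  · subst e2; simp [bv_apply, h12, Ne.symm h23]
  · simp [bv_apply, e1, e2]

end Cfsg.Agent.ChevGroup.CubicE6
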