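import Cfsg.Agent.ChevGroup.CubicE6.Polar

/-!
An isometry of the cubic form becomes diagonal after multiplication by an element of the representation.
-/

set_option autoImplicit false

namespace Cfsg.Agent.ChevGroup.CubicE6

open Cfsg.Lie Cfsg.Agent.ChevCore Cfsg.Agent.ChevGroup.Minu Matrix

variable {F : Type*} [Field F]

/-- The action on vectors. -/
def act (g : GL (Fin 27) F) (v : Fin 27 → F) : Fin 27 → F := (g : Matrix (Fin 27) (Fin 27) F) *ᵥ v

theorem act_mul (g h : GL (Fin 27) F) (v : Fin 27 → F) : act (g * h) v = act g (act h v) := by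
  simp [act, Units.val_mul, Matrix.mulVec_mulVec]

theorem act_smul (g : GL (Fin 27) F) (c : F) (v : Fin 27 → F) : act g (c • v) = c • act g v := by
  simp [act, Matrix.mulVec_smul]

theorem act_inv (g : GL (Fin 27) F) (v : Fin 27 → F) : act g (act g⁻¹ v) = v := by
  rw [← act_mul, mul_inv_cancel]; simp [act]

theorem act_ne_zero (g : GL (Fin 27) F) {v : Fin 27 → F} (hv : v ≠ 0) : act g v ≠ 0 := by
  intro h
  apply hv
  have e := congrArg (act g⁻¹) h
  rw [← act_mul, inv_mul_cancel] at e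
  simpa [act] using e

/-- The basis vectors in `S` are eigenvectors. -/
def Fixes (g : GL (Fin 27) F) (S : List (Fin 27)) : Prop :=
  ∀ s ∈ S, ∃ c : F, c ≠ 0 ∧ act g (bv s) = c • bv s

/-- There is a scalar other than `0` and `1`. -/
def Big (F : Type*) [Field F] : Prop := ∃ t : F, t ≠ 0 ∧ t ≠ 1

variable (hbig : Big F)
include hbig

theorem pP_act {g : GL (Fin 27) F} (hg : g ∈ Iso F) (u v w : Fin 27 → F) :
    pP (act g u) (act g v) (act g w) = pP u v w := by
  obtain ⟨t, h0, h1⟩ := hbig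
  exact pP_inv hg h0 h1 u v w

theorem pA_act {g : GL (Fin 27) F} (hg : g ∈ Iso F) (v w : Fin 27 → F) :
    pA (act g v) (act g w) = pA v w := by
  obtain ⟨t, h0, h1⟩ := hbig
  exact pA_inv hg h0 h1 v w

theorem forb_zero {g : GL (Fin 27) F} (hg : g ∈ Iso F) {S : List (Fin 27)} (hS : Fixes g S)
    {mu x : Fin 27} (hmu : S.contains mu = false) (hx : forb S mu x = true) : act g (bv mu) x = 0 := by
  simp only [forb, List.any_eq_true, Bool.and_eq_true, Bool.not_eq_true'] at hx
  obtain ⟨s, hs, hsm, hsx⟩ := hx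
  obtain ⟨c, hc0, hc⟩ := hS s hs
  obtain ⟨t0, h1, h2⟩ := exists_inT hsx
  have hsne : s ≠ x := fun e => by rw [e, share_self] at hsx; exact Bool.noConfusion hsx
  have ht : ∃ b, triB s x b t0 = true := by
    refine ⟨third s x t0, ?_⟩
    obtain ⟨h12, h13, h23, -⟩ := linkB_dist (F := F) t0
    simp only [inT, decide_eq_true_eq] at h1 h2
    simp only [triB, sameT, decide_eq_true_eq, Prod.mk.injEq, third]
    rcases h1 with rfl | rfl | rfl <;> rcases h2 with rfl | rfl | rfl <;>
      simp_all [Ne.symm h12, Ne.symm h13, Ne.symm h23]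
  obtain ⟨b, hb⟩ := ht
  have hz : pP (bv s) (bv mu) (act g⁻¹ (bv b)) = (0 : F) := by
    refine pP_bv_zero (fun y hy => ?_) _
    rw [bv_apply, if_neg]
    rintro rfl
    rw [hsm] at hy
    exact Bool.noConfusion hy
  rw [← pP_act hbig hg, act_inv, hc,
    show act g (bv mu) = (1 : F) • act g (bv mu) by rw [one_smul], pP_smul, pP_bv hb] at hz
  simpa [hc0, (linkB_dist (F := F) t0).2.2.2] using hz

theorem exists_cand {g : GL (Fin 27) F} (hg : g ∈ Iso F) {S : List (Fin 27)} (hS : Fixes g S)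
    {st : FixStep} (hmu : S.contains st.mu = false) (hw : witB S st = true) :
    ∃ c ∈ st.cands, act g (bv st.mu) c.1 ≠ 0 := by
  suffices h : ∃ x, (st.cands.map Prod.fst).contains x = true ∧ act g (bv st.mu) x ≠ 0 by
    obtain ⟨x, hx, hne⟩ := h
    obtain ⟨c, hc, rfl⟩ := List.mem_map.1 (List.contains_iff_mem.1 hx)
    exact ⟨c, hc, hne⟩
  unfold witB at hw
  split at hw
  · simp only [Bool.and_eq_true, List.all_eq_true, List.mem_finRange, forall_true_left] at hw
    by_contra hno
    push Not at hno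
    refine act_ne_zero g (v := bv st.mu) (fun e => ?_) (funext fun x => hno x (hw.2 x))
    simpa [bv_apply] using congrFun e st.mu
  next s _ =>
    simp only [Bool.and_eq_true, List.all_eq_true, List.mem_finRange, forall_true_left, Bool.or_eq_true,
      Bool.not_eq_true'] at hw
    obtain ⟨⟨hs, hsm⟩, hall⟩ := hw
    obtain ⟨cs, hcs0, hcs⟩ := hS s (by simpa using hs)
    by_contra hno
    push Not at hno
    obtain ⟨t0, h1, h2⟩ := exists_inT hsm
    have ht : ∃ b, triB s st.mu b t0 = true := by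
      refine ⟨third s st.mu t0, ?_⟩
      obtain ⟨h12, h13, h23, -⟩ := linkB_dist (F := F) t0
      have hne : s ≠ st.mu := fun e => by rw [e, share_self] at hsm; exact Bool.noConfusion hsm
      generalize st.mu = m at h2 hne ⊢
      simp only [inT, decide_eq_true_eq] at h1 h2
      simp only [triB, sameT, decide_eq_true_eq, Prod.mk.injEq, third]
      rcases h1 with rfl | rfl | rfl <;> rcases h2 with rfl | rfl | rfl <;>
        simp_all [Ne.symm h12, Ne.symm h13, Ne.symm h23]
    obtain ⟨b, hb⟩ := ht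
    have h0 : pP (bv s) (act g (bv st.mu)) (act g (bv b)) = (0 : F) := by
      refine pP_bv_zero (fun x hx => ?_) _
      rcases hall x with (h | h) | h
      · rw [h] at hx; exact Bool.noConfusion hx
      · exact forb_zero hbig hg hS hmu h
      · exact hno x h
    have h3 := pP_act hbig hg (bv s) (bv st.mu) (bv b)
    rw [hcs, show act g (bv st.mu) = (1 : F) • act g (bv st.mu) by rw [one_smul], pP_smul, h0,
      mul_zero, pP_bv hb, bv_apply, if_pos rfl, mul_one] at h3
    exact (linkB_dist (F := F) t0).2.2.2 h3.symm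
  next a b _ =>
    simp only [Bool.and_eq_true, List.any_eq_true, List.mem_finRange, true_and] at hw
    obtain ⟨⟨⟨ha, hb⟩, hc⟩, t0, ht⟩ := hw
    obtain ⟨ca, hca0, hca⟩ := hS a (by simpa using ha)
    obtain ⟨cb, hcb0, hcb⟩ := hS b (by simpa using hb)
    refine ⟨st.mu, hc, fun e => ?_⟩
    have h3 := pP_act hbig hg (bv a) (bv st.mu) (bv b)
    rw [hca, hcb, show act g (bv st.mu) = (1 : F) • act g (bv st.mu) by rw [one_smul], pP_smul,
      pP_swap (bv a) (act g (bv st.mu)), show (bv a : Fin 27 → F) = (1 : F) • bv a by rw [one_smul],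
      pP_smul, one_smul, pP_swap (bv a) (bv b), pP_bv ht, pP_bv ht, bv_apply, if_pos rfl, e] at h3
    simp at h3
    exact (linkB_dist (F := F) t0).2.2.2 h3.symm

omit hbig in
theorem nbrB_spec (v : Fin 27) {r : ℕ} (hr : r ∈ rts v) :
    preL r (tg r v) = [v] ∧ preL r v = [] ∧ ∀ r' ∈ rts v, r' ≠ r → preL r (tg r' v) = [] := by
  have h := List.all_eq_true.1 nbrB_all v (List.mem_finRange v)
  simp only [nbrB, List.all_eq_true, Bool.and_eq_true, decide_eq_true_eq, List.isEmpty_iff,
    Bool.or_eq_true] at h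
  obtain ⟨⟨h1, h2⟩, h3⟩ := h r hr
  exact ⟨h1, h2, fun r' hr' hne => (h3 r' hr').resolve_left hne⟩

theorem clear_nbrs {g : GL (Fin 27) F} (hg : g ∈ Iso F) {S : List (Fin 27)} (hS : Fixes g S)
    {mu nu : Fin 27} (hmu : S.contains mu = false) (hnu : act g (bv mu) nu ≠ 0)
    (hok : ∀ r ∈ rts nu, (∀ s ∈ S, cd6 r s = 0) ∨ forb S mu (tg r nu) = true) :
    ∀ R : List ℕ, (∀ r ∈ R, r ∈ rts nu) → ∃ u ∈ (rho6 F).range, Fixes (u * g) S ∧
      act (u * g) (bv mu) nu ≠ 0 ∧ ∀ r ∈ R, act (u * g) (bv mu) (tg r nu) = 0 := by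
  intro R
  induction R with
  | nil => exact fun _ => ⟨1, one_mem _, by simpa using hS, by simpa using hnu, by simp⟩
  | cons r R ih =>
    intro hR
    obtain ⟨u, hu, hfix, hne, hz⟩ := ih fun x hx => hR x (List.mem_cons_of_mem _ hx)
    have hg' : u * g ∈ Iso F := mul_mem (range_le_Iso hu) hg
    have hr := hR r (List.mem_cons_self ..)
    obtain ⟨h1, h2, h3⟩ := nbrB_spec nu hr
    set w := act (u * g) (bv mu) with hw
    rcases eq_or_ne (w (tg r nu)) 0 with h0 | h0
    · refine ⟨u, hu, hfix, hne, ?_⟩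
      intro x hx
      rcases List.mem_cons.1 hx with rfl | hx
      · exact h0
      · exact hz x hx
    have hmov : ∀ s ∈ S, cd6 r s = 0 := (hok r hr).resolve_right fun hf =>
      h0 (forb_zero hbig hg' hfix hmu hf)
    have hr72 : r < 72 := by
      simp only [rts, List.mem_filter, List.mem_range] at hr
      exact hr.1
    set sg : F := (sgC (cd6 r nu) : F)
    have hsg : sg ≠ 0 := by simp only [sg, sgC]; split_ifs <;> simp
    set t : F := -(w (tg r nu)) / (sg * w nu)
    set x := rho6 F (Stb.xb chevE6 F r t)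
    have hx : ∀ v, act x v = v + t • opV r v := fun v => rho6_xb_mulVec hr72 t v
    refine ⟨x * u, mul_mem ⟨_, rfl⟩ hu, ?_, ?_, ?_⟩
    · intro s hs
      obtain ⟨c, hc0, hc⟩ := hfix s hs
      refine ⟨c, hc0, ?_⟩
      have hop : opV r (bv s : Fin 27 → F) = 0 := by
        funext a
        rw [opV_eq, Finset.sum_eq_single s]
        · simp [hmov s hs, vecC]
        · intro b _ hb; simp [bv_apply, hb]
        · simp
      rw [mul_assoc, act_mul, hc, act_smul, hx, hop, smul_zero, add_zero]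
    · rw [mul_assoc, act_mul, ← hw, hx]
      simp [opV, h2]
      exact hne
    · intro y hy
      rw [mul_assoc, act_mul, ← hw, hx]
      rcases eq_or_ne y r with rfl | hyr
      · simp only [Pi.add_apply, Pi.smul_apply, smul_eq_mul, opV, h1, List.map_cons, List.map_nil,
          List.sum_cons, List.sum_nil, add_zero]
        show w (tg y nu) + t * (sg * w nu) = 0
        rw [show t = -(w (tg y nu)) / (sg * w nu) from rfl, div_mul_cancel₀ _ (mul_ne_zero hsg hne)]
        ring
      · have hyR : y ∈ R := by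
          rcases List.mem_cons.1 hy with h | h
          · exact absurd h hyr
          · exact h
        simp [opV, h3 y (hR y hy) hyr, hz y hyR]
  
theorem col_eq {g : GL (Fin 27) F} (hg : g ∈ Iso F) {mu nu : Fin 27} (hne : act g (bv mu) nu ≠ 0)
    (hz : ∀ r ∈ rts nu, act g (bv mu) (tg r nu) = 0) :
    act g (bv mu) = act g (bv mu) nu • bv nu := by
  set w := act g (bv mu)
  have hA : ∀ y, pA w y = 0 := fun y => by
    have h := pA_act hbig hg (bv mu) (act g⁻¹ y)
    rw [act_inv, pA_bv_left] at h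
    exact h
  have hn : ∀ y, (nbrs nu).contains y = true → w y = 0 := fun y hy => by
    obtain ⟨r, hr, rfl⟩ := List.mem_map.1 (by simpa using hy : y ∈ nbrs nu)
    exact hz r hr
  funext x
  rw [Pi.smul_apply, bv_apply, smul_eq_mul]
  split_ifs with hx
  · rw [hx, mul_one]
  rw [mul_zero]
  have h := List.all_eq_true.1 oppB_all nu (List.mem_finRange nu)
  simp only [oppB, List.all_eq_true, Bool.or_eq_true, decide_eq_true_eq, List.any_eq_true,
    Bool.and_eq_true, List.mem_finRange, forall_true_left, true_and] at h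
  rcases h x with (e | e) | ⟨t0, ⟨⟨-, ht⟩, ho⟩⟩
  · exact absurd e hx
  · exact hn x e
  · set c := third nu x t0
    have hsum := hA (bv c)
    rw [pA, Finset.sum_eq_single t0] at hsum
    · obtain ⟨h12, h13, h23, hne0⟩ := linkB_dist (F := F) t0
      simp only [triB, sameT, decide_eq_true_eq, Prod.mk.injEq] at ht
      rcases ht with h' | h' | h' | h' | h' | h' <;> obtain ⟨e1, e2, e3⟩ := h' <;>
        simp only [e1, e2, e3, bv_apply, Ne.symm h12, Ne.symm h13, Ne.symm h23, h12, h13, h23,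
          if_false, if_true, zero_mul, mul_zero, add_zero, zero_add, mul_one, one_mul] at hsum <;>
        simp only [e2] at hne <;> rw [e3] <;> simpa [hne, hne0] using hsum
    · intro t _ hne'
      have h' := (ho t).resolve_left hne'
      simp only [otherB, Bool.and_eq_true, Bool.or_eq_true, decide_eq_true_eq] at h'
      obtain ⟨⟨p1, p2⟩, p3⟩ := h'
      by_cases q1 : (tri t).1 = c <;> by_cases q2 : (tri t).2.1 = c <;> by_cases q3 : (tri t).2.2.1 = c <;>
        simp [bv_apply, q1, q2, q3] <;>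
        rcases p1 with (p1 | p1) | p1 <;> rcases p2 with (p2 | p2) | p2 <;>
          rcases p3 with (p3 | p3) | p3 <;> simp_all
    · simp

omit hbig in
theorem exists_word (w : List (Fin 6)) : ∃ u ∈ (rho6 F).range, ∀ k, ∃ c : F, c ≠ 0 ∧
    act u (bv k) = c • bv (actW w k) := by
  induction w with
  | nil => exact ⟨1, one_mem _, fun k => ⟨1, one_ne_zero, by simp [act, actW]⟩⟩
  | cons i w ih =>
    obtain ⟨u, hu, h⟩ := ih
    refine ⟨rho6 F (Stb.nb chevE6 F (chevE6.simple i.val) 1) * u, mul_mem ⟨_, rfl⟩ hu, fun k => ?_⟩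
    obtain ⟨c, hc, hc'⟩ := h k
    obtain ⟨d, hd, hd'⟩ := rho6_nb_mulVec (F := F) i (actW w k)
    refine ⟨c * d, mul_ne_zero hc hd, ?_⟩
    rw [act_mul, hc', act_smul, act, bv, hd', smul_smul]
    rfl

theorem fix_step {g : GL (Fin 27) F} (hg : g ∈ Iso F) {S : List (Fin 27)} (hS : Fixes g S)
    {st : FixStep} (hok : stepOK S st = true) :
    ∃ u ∈ (rho6 F).range, Fixes (u * g) (st.mu :: S) := by
  simp only [stepOK, Bool.and_eq_true, Bool.not_eq_true', List.all_eq_true, decide_eq_true_eq,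
    Bool.or_eq_true] at hok
  obtain ⟨⟨hmu, hw⟩, hc⟩ := hok
  obtain ⟨c, hcm, hne⟩ := exists_cand hbig hg hS hmu hw
  obtain ⟨⟨hto, hfx⟩, hr⟩ := hc c hcm
  obtain ⟨u, hu, hfix, hne', hz⟩ := clear_nbrs hbig hg hS hmu hne hr (rts c.1) fun _ h => h
  have hcol := col_eq hbig (mul_mem (range_le_Iso hu) hg) hne' hz
  obtain ⟨v, hv, hvk⟩ := exists_word (F := F) c.2
  refine ⟨v * u, mul_mem hv hu, fun s hs => ?_⟩
  rw [mul_assoc, act_mul]
  rcases List.mem_cons.1 hs with rfl | hs
  · obtain ⟨d, hd, hd'⟩ := hvk c.1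
    refine ⟨act (u * g) (bv st.mu) c.1 * d, mul_ne_zero hne' hd, ?_⟩
    rw [hcol, act_smul, hd', hto, smul_smul]
    simp [bv_apply]
  · obtain ⟨d, hd, hd'⟩ := hfix s hs
    obtain ⟨e, he, he'⟩ := hvk s
    refine ⟨d * e, mul_ne_zero hd he, ?_⟩
    rw [hd', act_smul, he', hfx s hs, smul_smul]

theorem fix_all : ∀ (L : List FixStep) (S : List (Fin 27)) (g : GL (Fin 27) F), g ∈ Iso F → Fixes g S →
    allOK S L = true →
    ∃ u ∈ (rho6 F).range, Fixes (u * g) S ∧ Fixes (u * g) (L.map FixStep.mu)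
  | [], S, g, _, hS, _ => ⟨1, one_mem _, by simpa using hS, by simp [Fixes]⟩
  | st :: L, S, g, hg, hS, h => by
    simp only [allOK, Bool.and_eq_true] at h
    obtain ⟨u, hu, hfix⟩ := fix_step hbig hg hS h.1
    obtain ⟨v, hv, h1, h2⟩ := fix_all L (st.mu :: S) (u * g) (mul_mem (range_le_Iso hu) hg) hfix h.2
    refine ⟨v * u, mul_mem hv hu, ?_, ?_⟩ <;> rw [mul_assoc]
    · exact fun s hs => h1 s (List.mem_cons_of_mem _ hs)
    · intro s hs
      rcases List.mem_cons.1 hs with rfl | hs
      · exact h1 _ (List.mem_cons_self ..)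
      · exact h2 s hs

theorem reduce {g : GL (Fin 27) F} (hg : g ∈ Iso F) :
    ∃ u ∈ (rho6 F).range, ∀ k, ∃ c : F, c ≠ 0 ∧ act (u * g) (bv k) = c • bv k := by
  obtain ⟨u, hu, -, h⟩ := fix_all hbig stepList [] g hg (by simp [Fixes]) allOK_true
  refine ⟨u, hu, fun k => h k ?_⟩
  simpa using List.all_eq_true.1 mus_all k (List.mem_finRange k)

end Cfsg.Agent.ChevGroup.CubicE6
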